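import Mathlib
import Cfsg.Agent.Lib.Helper79.CS3.EndDefs
import Cfsg.Agent.Lib.Helper1.CS3.EndE0
import Cfsg.Agent.Lib.Helper1.CS3.EndI1

/-!
# CS3 (S4284), part END: package [E7]
-/

set_option autoImplicit false

namespace Cfsg.Agent.Lib.Helper1.CS3

open Cfsg.Agent.Lib.Helper81.CS3 Cfsg.Agent.Lib.Helper79.CS3

universe u

section

variable {G : Type u} [Group G]

/-- Dedekind: `C = (C ⊓ P) Q` for `Q ≤ C`, `Q` normal, `Q P = G` -/
theorem dedekind_sup (Q P C : Subgroup G) [Q.Normal] (hsup : Q ⊔ P = ⊤) (hQC : Q ≤ C) :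
    (C ⊓ P) ⊔ Q = C := by
  apply le_antisymm (sup_le inf_le_left hQC)
  intro c hc
  have hc' : c ∈ ((Q ⊔ P : Subgroup G) : Set G) := by
    rw [hsup]
    exact Subgroup.mem_top c
  rw [Subgroup.normal_mul] at hc'
  obtain ⟨q, hq, x, hx, rfl⟩ := Set.mem_mul.mp hc'
  have hxC : x ∈ C := by
    have h : x = q⁻¹ * (q * x) := by group
    rw [h]
    exact C.mul_mem (C.inv_mem (hQC hq)) hc
  exact Subgroup.mul_mem _ (Subgroup.mem_sup_right hq)
    (Subgroup.mem_sup_left (Subgroup.mem_inf.mpr ⟨hxC, hx⟩))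

/-- `|C : Q| = |C ⊓ P|` -/
theorem relIndex_eq_card_inf (Q P C : Subgroup G) [Q.Normal] (hinf : Q ⊓ P = ⊥)
    (hsup : Q ⊔ P = ⊤) (hQC : Q ≤ C) : Q.relIndex C = Nat.card ↥(C ⊓ P) := by
  have h1 : Q.relIndex ((C ⊓ P) ⊔ Q) = Q.relIndex (C ⊓ P) := Subgroup.relIndex_sup_right _ _
  rw [dedekind_sup Q P C hsup hQC] at h1
  rw [h1, ← Subgroup.inf_relIndex_right]
  have h2 : Q ⊓ (C ⊓ P) = ⊥ := by
    rw [eq_bot_iff, ← hinf]
    exact inf_le_inf_left Q inf_le_right
  rw [h2, Subgroup.relIndex_bot_left]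

/-- `|P : C ⊓ P| = |G : C|` for `Q ≤ C` -/
theorem relIndex_eq_index_of_compl [Finite G] (Q P C : Subgroup G) [Q.Normal]
    (hinf : Q ⊓ P = ⊥) (hsup : Q ⊔ P = ⊤) (hQC : Q ≤ C) : C.relIndex P = C.index := by
  have h1 : Q.index = Nat.card P := by
    have hc : Subgroup.IsComplement' Q P :=
      Subgroup.isComplement'_of_disjoint_and_mul_eq_univ (disjoint_iff.mpr hinf)
        (by rw [← Subgroup.normal_mul, hsup]; rfl)
    exact hc.symm.index_eq_card
  have h2 := Subgroup.relIndex_mul_index hQC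
  rw [relIndex_eq_card_inf Q P C hinf hsup hQC, h1] at h2
  have h3 := card_inf_mul_relIndex C P
  have hpos : 0 < Nat.card ↥(C ⊓ P) := Nat.card_pos
  exact Nat.eq_of_mul_eq_mul_left hpos (h3.trans h2.symm)

/-- the class of `u ∈ C ⊓ P` inside `C = Q (C ⊓ P)` splits -/
theorem relIndex_split [Finite G] (hCent : PkgCent.{u}) (Q P C : Subgroup G) [hQn : Q.Normal]
    (hinf : Q ⊓ P = ⊥) (hsup : Q ⊔ P = ⊤) (hQC : Q ≤ C) (u : G) (hu : u ∈ C ⊓ P) :
    (Subgroup.centralizer ({u} : Set G)).relIndex C =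
      (Subgroup.centralizer ({u} : Set G)).relIndex Q *
        (Subgroup.centralizer ({u} : Set G)).relIndex (C ⊓ P) := by
  have hQL0 : Q ⊓ (C ⊓ P) = ⊥ := by
    rw [eq_bot_iff, ← hinf]
    exact inf_le_inf_left Q inf_le_right
  have hcent := hCent Q (C ⊓ P) (fun l _ q hq => hQn.conj_mem q hq l) hQL0 u hu
  have hsupC : Q ⊔ (C ⊓ P) = C := by
    rw [sup_comm]
    exact dedekind_sup Q P C hsup hQC
  rw [hsupC] at hcent
  have c1 := card_inf_mul_relIndex (Subgroup.centralizer ({u} : Set G)) C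
  have c2 := card_inf_mul_relIndex (Subgroup.centralizer ({u} : Set G)) Q
  have c3 := card_inf_mul_relIndex (Subgroup.centralizer ({u} : Set G)) (C ⊓ P)
  have c4 : Nat.card Q * Nat.card ↥(C ⊓ P) = Nat.card C := by
    have h := Subgroup.relIndex_mul_relIndex ⊥ Q C bot_le hQC
    rw [Subgroup.relIndex_bot_left, Subgroup.relIndex_bot_left,
      relIndex_eq_card_inf Q P C hinf hsup hQC] at h
    exact h
  have hpos1 : 0 < Nat.card ↥(Subgroup.centralizer ({u} : Set G) ⊓ Q) := Nat.card_pos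
  have hpos2 : 0 < Nat.card ↥(Subgroup.centralizer ({u} : Set G) ⊓ (C ⊓ P)) := Nat.card_pos
  have key : Nat.card ↥(Subgroup.centralizer ({u} : Set G) ⊓ Q) *
      Nat.card ↥(Subgroup.centralizer ({u} : Set G) ⊓ (C ⊓ P)) *
        (Subgroup.centralizer ({u} : Set G)).relIndex C =
      Nat.card ↥(Subgroup.centralizer ({u} : Set G) ⊓ Q) *
      Nat.card ↥(Subgroup.centralizer ({u} : Set G) ⊓ (C ⊓ P)) *
        ((Subgroup.centralizer ({u} : Set G)).relIndex Q *
          (Subgroup.centralizer ({u} : Set G)).relIndex (C ⊓ P)) := by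
    calc Nat.card ↥(Subgroup.centralizer ({u} : Set G) ⊓ Q) *
          Nat.card ↥(Subgroup.centralizer ({u} : Set G) ⊓ (C ⊓ P)) *
            (Subgroup.centralizer ({u} : Set G)).relIndex C
        = Nat.card ↥(Subgroup.centralizer ({u} : Set G) ⊓ C) *
            (Subgroup.centralizer ({u} : Set G)).relIndex C := by rw [hcent]
      _ = Nat.card C := c1
      _ = Nat.card Q * Nat.card ↥(C ⊓ P) := c4.symm
      _ = (Nat.card ↥(Subgroup.centralizer ({u} : Set G) ⊓ Q) *
            (Subgroup.centralizer ({u} : Set G)).relIndex Q) *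
          (Nat.card ↥(Subgroup.centralizer ({u} : Set G) ⊓ (C ⊓ P)) *
            (Subgroup.centralizer ({u} : Set G)).relIndex (C ⊓ P)) := by rw [c2, c3]
      _ = _ := by ring
  exact Nat.eq_of_mul_eq_mul_left (Nat.mul_pos hpos1 hpos2) key

end

/-- [E7] -/
theorem pkgE7_of (hCent : PkgCent.{u}) (hB4 : PkgB4.{u}) : PkgE7.{u} := by
  intro G _ _ m n Q P p hS y hyQ hyZ
  have hS0 := hS.s0
  have hyp := hS0.hyp
  have hQn := hS0.qn
  have hyCQ : y ∈ Subgroup.centralizer (Q : Set G) := by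
    rw [Subgroup.mem_centralizer_iff]
    intro q hq
    exact hS0.qc q hq y hyQ
  have hidx : (Subgroup.centralizer ({y} : Set G)).index = m := by
    rcases (pkgE1 m n Q P hS0 y).mp hyCQ with h | h
    · exfalso
      apply hyZ
      rw [Subgroup.index_eq_one] at h
      rw [Subgroup.mem_center_iff]
      intro g
      have hg : g ∈ Subgroup.centralizer ({y} : Set G) := by
        rw [h]
        exact Subgroup.mem_top g
      exact (mem_cent_single y g).mp hg
    · exact h
  have hQC : Q ≤ Subgroup.centralizer ({y} : Set G) := by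
    intro q hq
    rw [mem_cent_single]
    exact hS0.qc q hq y hyQ
  have hrel : (Subgroup.centralizer ({y} : Set G)).relIndex P = m := by
    rw [relIndex_eq_index_of_compl Q P _ hS0.inf hS0.sup hQC, hidx]
  refine ⟨hrel, ?_⟩
  intro u hu huy v hv hvy
  have huL0 : u ∈ Subgroup.centralizer ({y} : Set G) ⊓ P :=
    Subgroup.mem_inf.mpr ⟨(mem_cent_single y u).mpr huy, hu⟩
  have hvL0 : v ∈ Subgroup.centralizer ({y} : Set G) ⊓ P :=
    Subgroup.mem_inf.mpr ⟨(mem_cent_single y v).mpr hvy, hv⟩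
  obtain ⟨j, hj⟩ := hS.pm
  have hj0 : j ≠ 0 := by
    rintro rfl
    rw [pow_zero] at hj
    exact hyp.2.1.ne' hj
  have hpm : p ∣ m := by
    rw [hj]
    exact dvd_pow_self p hj0
  obtain ⟨k, hk⟩ := hS.pg ⟨u, hu⟩
  have huk : orderOf u ∣ p ^ k := by
    apply orderOf_dvd_of_pow_eq_one
    have := congrArg Subtype.val hk
    simpa using this
  have hyord : orderOf y ∣ Nat.card Q := Subgroup.orderOf_dvd_natCard Q hyQ
  have hcop1 : (Nat.card Q).Coprime p := Nat.Coprime.coprime_dvd_right hpm hS0.qm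
  have hcop : (orderOf y).Coprime (orderOf u) :=
    (Nat.Coprime.coprime_dvd_left huk
      (Nat.Coprime.coprime_dvd_right hyord (hcop1.symm.pow_left k))).symm
  have hB := hB4 m n hyp y u hidx huy.symm hcop
  have key := relIndex_split hCent Q P (Subgroup.centralizer ({y} : Set G)) hS0.inf hS0.sup
    hQC u huL0
  have hr_n : (Subgroup.centralizer ({u} : Set G)).relIndex
      (Subgroup.centralizer ({y} : Set G) ⊓ P) ∣ n := by
    rcases hB with h | h
    · rw [h] at key
      exact (Dvd.intro_left _ key.symm).trans (one_dvd n)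
    · rw [h] at key
      exact Dvd.intro_left _ key.symm
  have hfp : Fact p.Prime := ⟨hS.pp⟩
  obtain ⟨k', hk'⟩ := hS.pg.exists_card_eq
  have hr_p : (Subgroup.centralizer ({u} : Set G)).relIndex
      (Subgroup.centralizer ({y} : Set G) ⊓ P) ∣ p ^ k' := by
    rw [← hk']
    exact (Subgroup.relIndex_dvd_card _ _).trans (Subgroup.card_dvd_of_le inf_le_right)
  have hpn : (p ^ k').Coprime n :=
    (Nat.Coprime.coprime_dvd_left hpm hyp.2.2.2.1).pow_left k'
  have hr1 : (Subgroup.centralizer ({u} : Set G)).relIndex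
      (Subgroup.centralizer ({y} : Set G) ⊓ P) = 1 := by
    have := Nat.dvd_gcd hr_p hr_n
    rw [hpn.gcd_eq_one] at this
    exact Nat.dvd_one.mp this
  rw [Subgroup.relIndex_eq_one] at hr1
  exact ((mem_cent_single u v).mp (hr1 hvL0)).symm

end Cfsg.Agent.Lib.Helper1.CS3
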